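import Mathlib.RingTheory.EssentialFiniteness
import Mathlib.Tactic

namespace Groth.Agent.Lib.Helper23

theorem essFiniteType_comp {R S T : Type*} [CommRing R] [CommRing S] [CommRing T]
    {f : R →+* S} {g : S →+* T} (hf : f.EssFiniteType) (hg : g.EssFiniteType) :
    (g.comp f).EssFiniteType := by
  algebraize [f, g, g.comp f]
  exact Algebra.EssFiniteType.comp R S T

end Groth.Agent.Lib.Helper23
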