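import Mathlib

/-! Helper lemmas (helper23): the property "locally essentially of finite type" of scheme
morphisms, via Mathlib's `affineLocally (RingHom.Locally RingHom.EssFiniteType)`. -/

open CategoryTheory AlgebraicGeometry RingHom TopologicalSpace

namespace Groth.Agent.Lib.Helper23.EFTL

universe u

lemma eft_locAwayPres : RingHom.LocalizationAwayPreserves RingHom.EssFiniteType :=
  RingHom.EssFiniteType.isStableUnderBaseChange.localizationPreserves.away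

lemma eft_stableAway : RingHom.StableUnderCompositionWithLocalizationAway RingHom.EssFiniteType :=
  RingHom.EssFiniteType.stableUnderComposition.stableUnderCompositionWithLocalizationAway
    RingHom.EssFiniteType.holdsForLocalization.holdsForLocalizationAway

/-- The morphism property "affine-locally `Locally EssFiniteType`". -/
abbrev LEFT : MorphismProperty Scheme.{u} := affineLocally (Locally RingHom.EssFiniteType)

lemma hasRHP : HasRingHomProperty (LEFT.{u}) (Locally RingHom.EssFiniteType) :=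
  ⟨locally_propertyIsLocal eft_locAwayPres eft_stableAway, rfl⟩

lemma left_iff {X Y : Scheme.{u}} (f : X ⟶ Y) :
    LEFT f ↔ ∀ (x : X), ∃ (U : Y.affineOpens) (V : X.affineOpens) (_ : x ∈ V.1)
      (e : V.1 ≤ f ⁻¹ᵁ U.1), (f.appLE U V e).hom.EssFiniteType := by
  have := hasRHP.{u}
  exact HasRingHomProperty.iff_exists_appLE_locally (P := LEFT) (f := f) eft_stableAway.left
    RingHom.EssFiniteType.respectsIso

lemma cover_of_left {X Y : Scheme.{u}} (f : X ⟶ Y) (hf : LEFT f) (U : Y.affineOpens) (x : X)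
    (hx : x ∈ f ⁻¹ᵁ U.1) :
    ∃ V : X.affineOpens, x ∈ V.1 ∧ ∃ e : V.1 ≤ f ⁻¹ᵁ U.1, (f.appLE U V e).hom.EssFiniteType := by
  have := hasRHP.{u}
  obtain ⟨V, hV, hxV, e⟩ := Opens.isBasis_iff_nbhd.mp X.isBasis_affineOpens hx
  have hloc := HasRingHomProperty.appLE (LEFT) f hf U ⟨V, hV⟩ e
  rw [locally_iff_isLocalization RingHom.EssFiniteType.respectsIso] at hloc
  obtain ⟨s, hs, hfs⟩ := hloc
  have hs' := iSup_basicOpen_of_span_eq_top V (s : Set Γ(X, V)) hs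
  have h1 : x ∈ (⨆ i ∈ (s : Set Γ(X, V)), X.basicOpen i) := hs'.symm ▸ hxV
  have h2 : ∃ r ∈ s, x ∈ X.basicOpen r := by simpa using h1
  obtain ⟨r, hr, hrs⟩ := h2
  refine ⟨⟨X.basicOpen r, hV.basicOpen r⟩, hrs, (X.basicOpen_le r).trans e, ?_⟩
  rw [← f.appLE_map e (homOfLE (X.basicOpen_le r)).op]
  have : IsLocalization.Away r Γ(X, X.basicOpen r) := hV.isLocalization_basicOpen r
  exact hfs r hr _

lemma left_of_cover {X Y : Scheme.{u}} (f : X ⟶ Y)
    (h : ∃ S : Set Y.affineOpens, (⋃ U ∈ S, ((U : Y.Opens) : Set ↥Y)) = Set.univ ∧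
      ∀ U ∈ S, ∃ T : Set X.affineOpens, (⋃ V ∈ T, ((V : X.Opens) : Set ↥X)) =
        ((f ⁻¹ᵁ (U : Y.Opens)) : Set ↥X) ∧
        ∀ V ∈ T, ∃ e : (V : X.Opens) ≤ f ⁻¹ᵁ (U : Y.Opens),
          (f.appLE (U : Y.Opens) (V : X.Opens) e).hom.EssFiniteType) : LEFT f := by
  obtain ⟨S, hS, hST⟩ := h
  rw [left_iff]
  intro x
  have hfx : f.base x ∈ ⋃ U ∈ S, ((U : Y.Opens) : Set Y) := by rw [hS]; trivial
  simp only [Set.mem_iUnion] at hfx
  obtain ⟨U, hUS, hxU⟩ := hfx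
  obtain ⟨T, hT, hTV⟩ := hST U hUS
  have hx : x ∈ ((f ⁻¹ᵁ (U : Y.Opens)) : Set X) := hxU
  rw [← hT] at hx
  simp only [Set.mem_iUnion] at hx
  obtain ⟨V, hVT, hxV⟩ := hx
  obtain ⟨e, he⟩ := hTV V hVT
  exact ⟨U, V, hxV, e, he⟩

lemma covers_of_left {X Y : Scheme.{u}} (f : X ⟶ Y) (hf : LEFT f) (U : Y.affineOpens) :
    ∃ T : Set X.affineOpens, (⋃ V ∈ T, ((V : X.Opens) : Set ↥X)) = ((f ⁻¹ᵁ (U : Y.Opens)) : Set ↥X) ∧
        ∀ V ∈ T, ∃ e : (V : X.Opens) ≤ f ⁻¹ᵁ (U : Y.Opens),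
          (f.appLE (U : Y.Opens) (V : X.Opens) e).hom.EssFiniteType := by
  refine ⟨{V | ∃ e : (V : X.Opens) ≤ f ⁻¹ᵁ (U : Y.Opens),
    (f.appLE (U : Y.Opens) (V : X.Opens) e).hom.EssFiniteType}, ?_, fun V hV => hV⟩
  apply subset_antisymm
  · simp only [Set.iUnion_subset_iff]
    rintro V ⟨e, _⟩
    exact e
  · intro x hx
    obtain ⟨V, hxV, e, he⟩ := cover_of_left f hf U x hx
    exact Set.mem_biUnion (show V ∈ {V : X.affineOpens | ∃ e : (V : X.Opens) ≤ f ⁻¹ᵁ (U : Y.Opens),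
      (f.appLE (U : Y.Opens) (V : X.Opens) e).hom.EssFiniteType} from ⟨e, he⟩) hxV

lemma affineOpens_cover (Y : Scheme.{u}) :
    (⋃ U ∈ (Set.univ : Set Y.affineOpens), ((U : Y.Opens) : Set ↥Y)) = Set.univ := by
  apply Set.eq_univ_of_forall
  intro y
  obtain ⟨U, hU, hyU, _⟩ := Opens.isBasis_iff_nbhd.mp Y.isBasis_affineOpens (Opens.mem_top y)
  exact Set.mem_biUnion (Set.mem_univ (⟨U, hU⟩ : Y.affineOpens)) hyU

end Groth.Agent.Lib.Helper23.EFTL
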