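import Groth.Prelude.Def_WeilCoh
import Mathlib.Tactic

/-! Helper lemmas for the axiomatic Weil cohomology theories `WeilCoh.TheoryOn`. -/

namespace Groth.Agent.Lib.Helper23.Weil

open CategoryTheory AlgebraicGeometry WeilCoh

universe u v w

variable {k : Type u} [Field k] {P : ObjectProperty (Over (Spec (CommRingCat.of k)))}
variable {K : Type v} [Field K] (T : TheoryOn.{u, v, w} k P K)

lemma pairing_apply' {A : Type*} [Ring A] [Algebra K A] (S S' : Submodule K A) (t : A →ₗ[K] K)
    (a : S) (b : S') : pairing K S S' t a b = t ((a : A) * b) := rfl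

/-- The defining property of push-forward. -/
theorem push_spec {X Y : P.FullSubcategory} (f : X ⟶ Y) (i : ℤ) (α : T.gr X i) (β : T.H Y)
    (hβ : β ∈ T.gr Y (2 * (dim X.obj.left : ℤ) - i)) :
    T.tr Y ((T.push f i α : T.H Y) * β) = T.tr X ((α : T.H X) * T.pull f β) := by
  have := T.duality Y (i + 2 * (dim Y.obj.left : ℤ) - 2 * (dim X.obj.left : ℤ))
    (2 * (dim X.obj.left : ℤ) - i) (by omega)
  have h := LinearMap.apply_symm_toPerfPair_self
    (p := pairing K (T.gr Y (i + 2 * (dim Y.obj.left : ℤ) - 2 * (dim X.obj.left : ℤ)))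
      (T.gr Y (2 * (dim X.obj.left : ℤ) - i)) (T.tr Y)) (T.pushFunctional f i α)
  have h2 := congrArg (fun g => g ⟨β, hβ⟩) h
  exact h2

/-- Poincaré duality makes a class determined by its pairings with the complementary degree. -/
theorem eq_of_tr (Y : P.FullSubcategory) (m : ℤ) (x y : T.H Y) (hx : x ∈ T.gr Y m)
    (hy : y ∈ T.gr Y m)
    (h : ∀ β ∈ T.gr Y (2 * (dim Y.obj.left : ℤ) - m), T.tr Y (x * β) = T.tr Y (y * β)) :
    x = y := by
  have hd := T.duality Y m (2 * (dim Y.obj.left : ℤ) - m) (by omega)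
  have hinj := hd.bijective_left.1
  have : (⟨x, hx⟩ : T.gr Y m) = ⟨y, hy⟩ := by
    apply hinj
    ext β
    exact h β.1 β.2
  exact congrArg Subtype.val this

/-- Transport of membership along an equality of degrees. -/
theorem mem_gr_of_eq {X : P.FullSubcategory} {i j : ℤ} (hij : i = j) {x : T.H X}
    (hx : x ∈ T.gr X i) : x ∈ T.gr X j := hij ▸ hx

end Groth.Agent.Lib.Helper23.Weil
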